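import Groth.Agent.FieldExtLD.Algebra
import Groth.Agent.DimTheory.Fibre
import Groth.Agent.DimTheory.Points
import Groth.Prelude.Def_Flat
import Mathlib.AlgebraicGeometry.Morphisms.UniversallyOpen

/-!
Local dimension is invariant under base field extension.
-/

set_option autoImplicit false
set_option linter.style.haveILetI false
set_option backward.isDefEq.respectTransparency false

universe u

open CategoryTheory CategoryTheory.Limits AlgebraicGeometry TensorProduct

namespace Groth.Agent.FieldExtLD

open Groth.Agent.DimTheory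

variable {k : Type u} [Field k]

theorem height_openImm {X Z : Scheme.{u}} (f : X ⟶ Spec (CommRingCat.of k)) [LocallyOfFiniteType f]
    (g : Z ⟶ X) [IsOpenImmersion g] (z : Z) : Order.height (g z) = Order.height z := by
  obtain ⟨n, hn, hn'⟩ := exists_height_eq f (g z)
  obtain ⟨m, hm, hm'⟩ := exists_height_eq (g ≫ f) z
  rw [resTrdeg_comp, mapTrdeg_eq_zero, add_zero, hn] at hm
  rw [hn', hm', Nat.cast_injective (R := Cardinal.{u}) hm]

theorem localDim_eq {X : Scheme.{u}} (f : X ⟶ Spec (CommRingCat.of k)) [LocallyOfFiniteType f] (x : X) :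
    FlatMor.localDim X x = ((Order.height x + Order.coheight x : ℕ∞) : WithBot ℕ∞) := by
  obtain ⟨h1, U, hxU, hU⟩ := exists_opens_dim_eq f x
  refine le_antisymm ((iInf_le (fun U : {U : TopologicalSpace.Opens X // x ∈ U} =>
    topologicalKrullDim (U.1 : Set X)) ⟨U, hxU⟩).trans hU) (le_iInf fun V => h1 V.1 V.2)

theorem localDim_of_isOpenEmbedding {Z X : Type*} [TopologicalSpace Z] [TopologicalSpace X] {g : Z → X}
    (hg : Topology.IsOpenEmbedding g) (z : Z) : FlatMor.localDim X (g z) = FlatMor.localDim Z z := by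
  refine le_antisymm (le_iInf fun U => ?_) (le_iInf fun V => ?_)
  · refine (iInf_le (fun V : {V : TopologicalSpace.Opens X // g z ∈ V} => topologicalKrullDim (V.1 : Set X))
      ⟨⟨g '' U.1, hg.isOpenMap _ U.1.2⟩, ⟨z, U.2, rfl⟩⟩).trans ?_
    refine ((?_ : IsHomeomorph fun u : (U.1 : Set Z) => (⟨g u.1, ⟨u.1, u.2, rfl⟩⟩ : ↥(g '' (U.1 : Set Z)))).topologicalKrullDim_eq _).ge
    rw [isHomeomorph_iff_isEmbedding_surjective]
    exact ⟨(hg.isEmbedding.comp Topology.IsEmbedding.subtypeVal).codRestrict (g '' (U.1 : Set Z)) (fun u => ⟨u.1, u.2, rfl⟩), fun ⟨_, u, hu, rfl⟩ => ⟨⟨u, hu⟩, rfl⟩⟩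
  · refine (iInf_le (fun U : {U : TopologicalSpace.Opens Z // z ∈ U} => topologicalKrullDim (U.1 : Set Z))
      ⟨⟨g ⁻¹' V.1, V.1.2.preimage hg.continuous⟩, V.2⟩).trans ?_
    exact Topology.IsInducing.topologicalKrullDim_le
      ((hg.isEmbedding.comp Topology.IsEmbedding.subtypeVal).codRestrict (V.1 : Set X) fun u => u.2).isInducing

variable {K : Type u} [Field K] [Algebra k K]

local notation "κ" => Spec.map (CommRingCat.ofHom (algebraMap k K))

/-- An affine chart of the base change around a point, with its dimensions. -/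
theorem exists_chart {X : Scheme.{u}} (f : X ⟶ Spec (CommRingCat.of k)) [LocallyOfFiniteType f]
    (y' : ↥(pullback f κ)) :
    Order.height y' ≤ Order.height (pullback.fst f κ y') ∧
    ((∀ z, y' ≤ z → z ≤ y') → Order.height (pullback.fst f κ y') ≤ Order.height y') := by
  obtain ⟨U, hU, hxU, -⟩ := X.isBasis_affineOpens.exists_subset_of_mem_open
    (Set.mem_univ (pullback.fst f κ y')) isOpen_univ
  obtain ⟨U, hU, rfl⟩ := hU
  replace hU : IsAffineOpen U := hU
  obtain ⟨φ, hφ⟩ := Spec.map_surjective (hU.fromSpec ≫ f)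
  have hft : φ.hom.FiniteType := by
    rw [← HasRingHomProperty.Spec_iff (P := @LocallyOfFiniteType), hφ]
    infer_instance
  algebraize [φ.hom]
  let A := Γ(X, U)
  haveI : Algebra.FiniteType k A := hft
  let e : pullback (Spec.map φ) κ ≅ Spec (CommRingCat.of (K ⊗[k] A)) :=
    pullbackSymmetry _ _ ≪≫ pullbackSpecIso k K A
  let m : pullback (Spec.map φ) κ ⟶ pullback f κ :=
    pullback.map (Spec.map φ) κ f κ hU.fromSpec (𝟙 _) (𝟙 _) (by rw [Category.comp_id, hφ]) (by simp)
  haveI : IsOpenImmersion m := IsOpenImmersion.of_isPullback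
    (IsPullback.of_right (h₁₂ := pullback.snd f κ) (h₂₂ := f)
      (by rw [pullback.lift_snd, Category.comp_id]; rw [← hφ]; exact IsPullback.of_hasPullback _ _ |>.flip)
      (by simp [m]) (IsPullback.of_hasPullback f κ).flip).flip inferInstance
  let N := e.inv ≫ m
  have hN : N ≫ pullback.fst f κ =
      Spec.map (CommRingCat.ofHom (Algebra.TensorProduct.includeRight : A →ₐ[k] K ⊗[k] A).toRingHom) ≫ hU.fromSpec := by
    simp only [N, e, m, Iso.trans_inv, Category.assoc, pullback.lift_fst, pullbackSymmetry_inv_comp_fst_assoc]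
    rw [← Category.assoc]
    congr 1
    exact pullbackSpecIso_inv_snd k K A
  obtain ⟨P, hP⟩ : y' ∈ Set.range N := by
    have hr : Set.range m = pullback.fst f κ ⁻¹' (Set.range hU.fromSpec) := by
      rw [Scheme.Pullback.range_map]; simp
    obtain ⟨w, hw⟩ : y' ∈ Set.range m := by
      rw [hr, Set.mem_preimage, hU.range_fromSpec]; exact hxU
    exact ⟨e.hom w, by rw [← Scheme.Hom.comp_apply, Iso.hom_inv_id_assoc]; exact hw⟩
  haveI : LocallyOfFiniteType (pullback.snd f κ) := MorphismProperty.pullback_snd _ _ inferInstance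
  have hy : Order.height y' = Order.height P := by rw [← hP]; exact height_openImm (pullback.snd f κ) N P
  let ir := (Algebra.TensorProduct.includeRight : A →ₐ[k] K ⊗[k] A).toRingHom
  let p : Spec Γ(X, U) := Spec.map (CommRingCat.ofHom ir) P
  have hfst : pullback.fst f κ y' = hU.fromSpec p := by
    rw [← hP, ← Scheme.Hom.comp_apply, hN]; rfl
  have hx : Order.height (pullback.fst f κ y') = Order.height p := by
    rw [hfst]; exact height_openImm f hU.fromSpec p
  have hp : p.asIdeal = P.asIdeal.comap ir := rfl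
  haveI : P.asIdeal.IsPrime := P.isPrime
  rw [hy, hx]
  constructor
  · rw [← WithBot.coe_le_coe, height_spec, height_spec, hp]
    exact dim_quotient_le A P.asIdeal
  · intro hmax
    have hmin : P.asIdeal ∈ minimalPrimes (K ⊗[k] A) := by
      refine ⟨⟨P.isPrime, bot_le⟩, fun Q hQ hQP => ?_⟩
      let Q' : Spec (CommRingCat.of (K ⊗[k] A)) := ⟨Q, hQ.1⟩
      have h1 : y' ≤ N Q' := hP ▸ ((PrimeSpectrum.le_iff_specializes Q' P).1 hQP).map N.continuous
      have h2 : Q' ⤳ P ∧ P ⤳ Q' := ⟨(PrimeSpectrum.le_iff_specializes Q' P).1 hQP,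
        N.isOpenEmbedding.isInducing.specializes_iff.1 (hP ▸ hmax _ h1)⟩
      exact (PrimeSpectrum.le_iff_specializes P Q').2 h2.2
    rw [← WithBot.coe_le_coe, height_spec, height_spec, hp]
    exact dim_quotient_ge A P.asIdeal hmin

/-- Local dimension is invariant under extension of the base field. -/
theorem localDim_pullback {X : Scheme.{u}} (f : X ⟶ Spec (CommRingCat.of k)) [LocallyOfFiniteType f]
    (x' : ↥(pullback f κ)) :
    FlatMor.localDim ↥(pullback f κ) x' = FlatMor.localDim X (pullback.fst f κ x') := by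
  haveI : LocallyOfFiniteType (pullback.snd f κ) := MorphismProperty.pullback_snd _ _ inferInstance
  rw [localDim_eq (pullback.snd f κ), localDim_eq f]
  haveI : Flat κ := by
    rw [HasRingHomProperty.Spec_iff (P := @Flat)]
    exact RingHom.flat_algebraMap_iff.2 inferInstance
  haveI : Flat (pullback.fst f κ) := MorphismProperty.pullback_fst _ _ inferInstance
  refine congrArg _ (le_antisymm ?_ ?_)
  · obtain ⟨y', hy', -, he⟩ := exists_height_eq_add_coheight (pullback.snd f κ) x'
    rw [← he]
    exact (exists_chart f y').1.trans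
      (height_le_height_add_coheight f (x := pullback.fst f κ x') (y := pullback.fst f κ y')
        ((show y' ⤳ x' from hy').map (pullback.fst f κ).continuous))
  · obtain ⟨y, hy, hymax, he⟩ := exists_height_eq_add_coheight f (pullback.fst f κ x')
    obtain ⟨y', hy', hfy'⟩ := Flat.generalizingMap (pullback.fst f κ) (show y ⤳ pullback.fst f κ x' from hy)
    obtain ⟨y'', hy'', hmax'', -⟩ := exists_height_eq_add_coheight (pullback.snd f κ) y'
    have hyy : y ⤳ pullback.fst f κ y'' ∧ pullback.fst f κ y'' ⤳ y := by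
      have h1 : pullback.fst f κ y'' ⤳ y := hfy' ▸ (show y'' ⤳ y' from hy'').map (pullback.fst f κ).continuous
      exact ⟨hymax _ h1, h1⟩
    have heq : pullback.fst f κ y'' = y := (hyy.1.antisymm hyy.2).eq.symm
    rw [← he, ← heq]
    exact ((exists_chart f y'').2 hmax'').trans
      (height_le_height_add_coheight (pullback.snd f κ) (x := x') (y := y'') (hy''.trans' hy'))

/-- The affine form. -/
theorem localDim_tensor {S : Type u} [CommRing S] [Algebra k S] [Algebra.FiniteType k S]
    (Q : PrimeSpectrum (K ⊗[k] S)) :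
    FlatMor.localDim (PrimeSpectrum (K ⊗[k] S)) Q = FlatMor.localDim (PrimeSpectrum S)
      (PrimeSpectrum.comap (Algebra.TensorProduct.includeRight : S →ₐ[k] K ⊗[k] S).toRingHom Q) := by
  let f := Spec.map (CommRingCat.ofHom (algebraMap k S))
  haveI : LocallyOfFiniteType f := by
    rw [HasRingHomProperty.Spec_iff (P := @LocallyOfFiniteType)]
    exact RingHom.finiteType_algebraMap.2 ‹_›
  let e : Spec (CommRingCat.of (K ⊗[k] S)) ≅ pullback f κ := (pullbackSymmetry _ _ ≪≫ pullbackSpecIso k K S).symm
  have he : e.hom ≫ pullback.fst f κ =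
      Spec.map (CommRingCat.ofHom (Algebra.TensorProduct.includeRight : S →ₐ[k] K ⊗[k] S).toRingHom) := by
    simp only [e, Iso.symm_hom, Iso.trans_inv, Category.assoc]
    rw [pullbackSymmetry_inv_comp_fst]
    exact pullbackSpecIso_inv_snd k K S
  have h := localDim_pullback f (e.hom Q)
  rw [← Scheme.Hom.comp_apply, he] at h
  exact (localDim_of_isOpenEmbedding e.hom.isOpenEmbedding Q).symm.trans h

end Groth.Agent.FieldExtLD
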