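import Groth.Agent.FieldExtDim.Basic
import Mathlib.LinearAlgebra.Basis.Submodule
import Mathlib.LinearAlgebra.TensorProduct.Pi
import Mathlib.RingTheory.Ideal.MinimalPrime.Localization
import Mathlib.RingTheory.Flat.Basic

/-!
Components of a base field extension have the same dimension.
-/

set_option autoImplicit false
set_option linter.style.haveILetI false
set_option backward.isDefEq.respectTransparency false

universe u

open TensorProduct

namespace Groth.Agent.FieldExtLD

theorem exists_injective_toPi {R M : Type u} [CommRing R] [IsDomain R] [AddCommGroup M] [Module R M]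
    [Module.Finite R M] [Module.IsTorsionFree R M] :
    ∃ (m : ℕ) (ψ : M →ₗ[R] (Fin m → R)), Function.Injective ψ := by
  classical
  obtain ⟨n, v, hv⟩ := Module.Finite.exists_fin (R := R) (M := M)
  obtain ⟨s, hs, ha⟩ := exists_maximal_linearIndepOn R v
  choose a ha0 hamem using ha
  let d : R := ∏ i : {i : Fin n // i ∉ s}, a i.1 i.2
  have hd0 : d ≠ 0 := Finset.prod_ne_zero_iff.2 fun i _ => ha0 i.1 i.2
  let N := Submodule.span R (v '' s)
  have hd : ∀ x, d • x ∈ N := fun x => by
    have hx : x ∈ Submodule.span R (Set.range v) := hv ▸ Submodule.mem_top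
    induction hx using Submodule.span_induction with
    | mem y hy =>
      obtain ⟨i, rfl⟩ := hy
      by_cases hi : i ∈ s
      · exact N.smul_mem _ (Submodule.subset_span ⟨i, hi, rfl⟩)
      · obtain ⟨c, hc⟩ : a i hi ∣ d := Finset.dvd_prod_of_mem (fun i : {i : Fin n // i ∉ s} => a i.1 i.2)
          (Finset.mem_univ (⟨i, hi⟩ : {i : Fin n // i ∉ s}))
        rw [hc, mul_comm, mul_smul]
        exact N.smul_mem _ (hamem i hi)
    | zero => simp
    | add y z _ _ hy hz => rw [smul_add]; exact N.add_mem hy hz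
    | smul r y _ hy => rw [smul_comm]; exact N.smul_mem _ hy
  have hli : LinearIndependent R (fun i : s => v i.1) := hs
  have hrange : Submodule.span R (Set.range fun i : s => v i.1) = N := by
    simp only [N]; congr 1; ext y; simp
  let b : Module.Basis s R N := (Module.Basis.span hli).map (LinearEquiv.ofEq _ _ hrange)
  let e : N ≃ₗ[R] (Fin (Fintype.card s) → R) := (b.reindex (Fintype.equivFin s)).equivFun
  refine ⟨_, e.toLinearMap.comp (LinearMap.codRestrict N (d • LinearMap.id) hd), e.injective.comp fun x y h => ?_⟩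
  exact smul_right_injective M hd0 (congrArg Subtype.val h)

variable {k K : Type u} [Field k] [Field K] [Algebra k K]

/-- Every component of the extension of a domain of finite type has at least its dimension. -/
theorem dim_le_dim_quotient_minimal (A : Type u) [CommRing A] [IsDomain A] [Algebra k A] [Algebra.FiniteType k A]
    (P : Ideal (K ⊗[k] A)) (hP : P ∈ minimalPrimes (K ⊗[k] A)) :
    ringKrullDim A ≤ ringKrullDim ((K ⊗[k] A) ⧸ P) := by
  obtain ⟨n, g, hg, hfin, hd⟩ := DimTheory.exists_normalization k A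
  letI := g.toRingHom.toAlgebra
  haveI : IsScalarTower k (MvPolynomial (Fin n) k) A := IsScalarTower.of_algHom g
  haveI : Module.Finite (MvPolynomial (Fin n) k) A := hfin
  haveI : FaithfulSMul (MvPolynomial (Fin n) k) A := (faithfulSMul_iff_algebraMap_injective _ _).2 hg
  haveI : Module.IsTorsionFree (MvPolynomial (Fin n) k) A := inferInstance
  obtain ⟨m, ψ, hψ⟩ := exists_injective_toPi (R := MvPolynomial (Fin n) k) (M := A)
  let R' := K ⊗[k] MvPolynomial (Fin n) k
  haveI : IsDomain R' :=
    (MvPolynomial.algebraTensorAlgEquiv (R := k) (σ := Fin n) (A := K)).toRingEquiv.toMulEquiv.isDomain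
      (MvPolynomial (Fin n) K)
  let h : R' →ₐ[k] K ⊗[k] A := Algebra.TensorProduct.map (AlgHom.id k K) g
  let ψk : A →ₗ[k] (Fin m → MvPolynomial (Fin n) k) := ψ.restrictScalars k
  let Φ : Fin m → (K ⊗[k] A →ₗ[k] R') := fun i => (LinearMap.proj i ∘ₗ ψk).lTensor K
  have hΦ : ∀ i s x, Φ i (h s * x) = s * Φ i x := fun i s x => by
    induction s using TensorProduct.induction_on with
    | zero => simp
    | add p q hp hq => rw [map_add, add_mul, map_add, hp, hq, add_mul]
    | tmul c p =>
      induction x using TensorProduct.induction_on with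
      | zero => simp
      | add y z hy hz => rw [mul_add, map_add, hy, hz, map_add, mul_add]
      | tmul c' y =>
        have : ψ (g p * y) i = p * ψ y i := by
          rw [show g p * y = p • y from rfl, map_smul, Pi.smul_apply, smul_eq_mul]
        change ((LinearMap.proj i ∘ₗ ψk).lTensor K) ((c ⊗ₜ g p) * (c' ⊗ₜ y)) =
          (c ⊗ₜ p) * (c' ⊗ₜ ψ y i)
        rw [Algebra.TensorProduct.tmul_mul_tmul, Algebra.TensorProduct.tmul_mul_tmul, ← this]
        rfl
  have hinjΦ : ∀ x, (∀ i, Φ i x = 0) → x = 0 := fun x hx => by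
    have h1 : Function.Injective (ψk.lTensor K) := Module.Flat.lTensor_preserves_injective_linearMap ψk hψ
    apply h1
    apply (TensorProduct.piRight k k K (fun _ : Fin m => MvPolynomial (Fin n) k)).injective
    rw [map_zero, map_zero]
    ext i : 1
    refine Eq.trans ?_ (hx i)
    clear hx
    induction x using TensorProduct.induction_on with
    | zero => simp
    | add y z hy hz => simp only [map_add, Pi.add_apply, hy, hz]
    | tmul c y => rfl
  have hreg : ∀ s : R', s ≠ 0 → h s ∈ nonZeroDivisors (K ⊗[k] A) := fun s hs =>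
    mem_nonZeroDivisors_iff_right.2 fun x hx => hinjΦ x fun i => by
      have := hΦ i s x
      rw [mul_comm, hx, map_zero] at this
      exact (mul_eq_zero.1 this.symm).resolve_left hs
  let ρ : R' →+* (K ⊗[k] A) ⧸ P := (Ideal.Quotient.mk P).comp h.toRingHom
  have hρ : Function.Injective ρ := (injective_iff_map_eq_zero ρ).2 fun s hs => by
    by_contra hne
    exact Set.disjoint_left.1 (Ideal.disjoint_nonZeroDivisors_of_mem_minimalPrimes hP)
      (Ideal.Quotient.eq_zero_iff_mem.1 hs) (hreg s hne)
  have hfin' : ρ.Finite := RingHom.Finite.comp (RingHom.Finite.of_surjective _ Ideal.Quotient.mk_surjective)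
    (RingHom.Finite.tensorProductMap (f := AlgHom.id k K) (RingEquiv.refl K).finite hfin)
  letI := ρ.toAlgebra
  haveI : Module.Finite R' ((K ⊗[k] A) ⧸ P) := hfin'
  haveI : FaithfulSMul R' ((K ⊗[k] A) ⧸ P) := (faithfulSMul_iff_algebraMap_injective _ _).2 hρ
  rw [DimTheory.ringKrullDim_eq_of_integral R' ((K ⊗[k] A) ⧸ P),
    ringKrullDim_eq_of_ringEquiv (MvPolynomial.algebraTensorAlgEquiv (R := k) (σ := Fin n) (A := K)).toRingEquiv,
    DimTheory.ringKrullDim_mvPolynomial_fin, hd]

/-- Dimensions of quotients by primes do not grow in field extensions. -/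
theorem dim_quotient_le (A : Type u) [CommRing A] [Algebra k A] [Algebra.FiniteType k A]
    (P : Ideal (K ⊗[k] A)) [P.IsPrime] :
    ringKrullDim ((K ⊗[k] A) ⧸ P) ≤
      ringKrullDim (A ⧸ P.comap (Algebra.TensorProduct.includeRight : A →ₐ[k] K ⊗[k] A).toRingHom) := by
  set p := P.comap (Algebra.TensorProduct.includeRight : A →ₐ[k] K ⊗[k] A).toRingHom with hp
  rw [← FieldExtDim.ringKrullDim_tensor_field (k := k) (K := K) (A ⧸ p)]
  let q : K ⊗[k] A →ₐ[k] (K ⊗[k] A) ⧸ P := Ideal.Quotient.mkₐ k P
  let l : A ⧸ p →ₐ[k] (K ⊗[k] A) ⧸ P :=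
    Ideal.Quotient.liftₐ p (q.comp Algebra.TensorProduct.includeRight) fun a ha => Ideal.Quotient.eq_zero_iff_mem.2 ha
  let σ : K ⊗[k] (A ⧸ p) →ₐ[k] (K ⊗[k] A) ⧸ P :=
    Algebra.TensorProduct.lift (q.comp Algebra.TensorProduct.includeLeft) l fun _ _ => Commute.all _ _
  have hσ : σ.comp (Algebra.TensorProduct.map (AlgHom.id k K) (Ideal.Quotient.mkₐ k p)) = q := by
    refine Algebra.TensorProduct.ext (AlgHom.ext fun c => ?_) (AlgHom.ext fun a => ?_)
    · simp [σ, q]
    · simp [σ, l, q, ← Algebra.TensorProduct.one_def]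
  exact ringKrullDim_le_of_surjective σ.toRingHom fun y => by
    obtain ⟨x, rfl⟩ := Ideal.Quotient.mk_surjective y
    exact ⟨_, congrArg (fun φ : K ⊗[k] A →ₐ[k] (K ⊗[k] A) ⧸ P => φ x) hσ⟩

/-- Minimal primes of a field extension keep the dimension. -/
theorem dim_quotient_ge (A : Type u) [CommRing A] [Algebra k A] [Algebra.FiniteType k A]
    (P : Ideal (K ⊗[k] A)) (hP : P ∈ minimalPrimes (K ⊗[k] A)) :
    ringKrullDim (A ⧸ P.comap (Algebra.TensorProduct.includeRight : A →ₐ[k] K ⊗[k] A).toRingHom) ≤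
      ringKrullDim ((K ⊗[k] A) ⧸ P) := by
  haveI := hP.1.1
  set p := P.comap (Algebra.TensorProduct.includeRight : A →ₐ[k] K ⊗[k] A).toRingHom with hp
  let π := (Algebra.TensorProduct.map (AlgHom.id k K) (Ideal.Quotient.mkₐ k p)).toRingHom
  have hπ : Function.Surjective π :=
    LinearMap.lTensor_surjective K (g := (Ideal.Quotient.mkₐ k p).toLinearMap) Ideal.Quotient.mk_surjective
  have hker : RingHom.ker π ≤ P := by
    intro x hx
    have hk := Algebra.TensorProduct.lTensor_ker (A := K) (Ideal.Quotient.mkₐ k p)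
      (Ideal.Quotient.mkₐ_surjective k p)
    have hx' : x ∈ RingHom.ker (Algebra.TensorProduct.map (AlgHom.id k K) (Ideal.Quotient.mkₐ k p)) := hx
    rw [hk] at hx'
    refine (Ideal.map_le_iff_le_comap.2 ?_) hx'
    intro a ha
    exact Ideal.Quotient.eq_zero_iff_mem.1 ha
  have hmap : P.map π ∈ minimalPrimes (K ⊗[k] (A ⧸ p)) := by
    haveI : (P.map π).IsPrime := Ideal.map_isPrime_of_surjective hπ hker
    refine ⟨⟨inferInstance, bot_le⟩, fun Q hQ hQle => ?_⟩
    haveI := hQ.1
    have h2 : Q.comap π ≤ P := (Ideal.comap_mono hQle).trans (by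
      rw [Ideal.comap_map_of_surjective π hπ, ← RingHom.ker_eq_comap_bot]; exact sup_le le_rfl hker)
    have h3 : P ≤ Q.comap π := hP.2 ⟨Ideal.IsPrime.comap π, bot_le⟩ h2
    exact Ideal.map_le_iff_le_comap.2 h3
  refine (dim_le_dim_quotient_minimal (A ⧸ p) (P.map π) hmap).trans
    (ringKrullDim_le_of_surjective (Ideal.quotientMap (P.map π) π Ideal.le_comap_map) fun y => ?_)
  obtain ⟨y, rfl⟩ := Ideal.Quotient.mk_surjective y
  obtain ⟨x, rfl⟩ := hπ y
  exact ⟨Ideal.Quotient.mk P x, Ideal.quotientMap_mk⟩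

end Groth.Agent.FieldExtLD
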